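import Cfsg.Agent.Omega.Spread.Elat
import Cfsg.Agent.Omega.NOne.Flat.TI

/-!
# The divisibility for invariant subgroups (#17060 (f), #17127)
-/

set_option autoImplicit false

namespace Cfsg.Agent.Omega.Spread

open Subgroup
open Cfsg.Agent.Omega.NOne.Flat.TI (Tis Pt J)
open scoped Pointwise

theorem dvd_of_two_pow {k m : ℕ} (h : 2 ^ k - 1 ∣ 2 ^ m - 1) : k ∣ m := by
  have h1 : Nat.gcd (2 ^ k - 1) (2 ^ m - 1) = 2 ^ k - 1 := Nat.gcd_eq_left h
  rw [Nat.pow_sub_one_gcd_pow_sub_one] at h1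
  have h2 : 0 < 2 ^ k := by positivity
  have h3 : 0 < 2 ^ Nat.gcd k m := by positivity
  have h4 : 2 ^ Nat.gcd k m = 2 ^ k := by omega
  have h5 := Nat.pow_right_injective (le_refl 2) h4
  rw [← h5]
  exact Nat.gcd_dvd_right k m

universe u

variable {M : Type u} [Group M] {L : Subgroup (MulAut M)} {B : Subgroup M}

namespace Elat

variable (h : Elat L B)
include h

theorem ne_Vel {y : MulAut M} (hy : y ∈ L) : ∃ a ∈ Vel L (y • B), a ≠ 1 := by
  by_contra hcon
  push Not at hcon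
  apply h.ne
  rw [eq_bot_iff]
  intro b hb
  have h1 := conj_mem_Vel hy hb
  have h2 := hcon _ h1
  rw [mem_bot]
  have e : b = y⁻¹ * (y * b * y⁻¹) * y := by group
  rw [e, h2]
  group

theorem Vel_inj {y z : MulAut M} (hy : y ∈ L) (hz : z ∈ L) (he : Vel L (y • B) = Vel L (z • B)) :
    y • B = z • B := by
  obtain ⟨a, ha, ha1⟩ := h.ne_Vel hy
  refine h.eq_of_fix hy hz ha ha1 ?_
  rw [he] at ha
  exact smul_self_of_mem ha

theorem tis : Tis L (Vel L B) where
  le := Vel_le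
  sq := fun _ hv => h.sq_Vel hv
  ne := h.ne
  ti := fun _ hg _ hv hv1 hn => h.ti hg hv hv1 hn

/-- **The divisibility.** -/
theorem dvd [Finite M] {z : MulAut M} (hz : z ∈ L) (hzB : z • B ≠ B) (I : Subgroup M)
    (hI : ∀ g ∈ L, g • B = B → g • z • B = z • B → ∀ m ∈ I, g m ∈ I) :
    Nat.card (Vel L B) - 1 ∣ Nat.card I - 1 := by
  classical
  have hfin : Finite (MulAut M) := Finite.of_injective (fun a : MulAut M => (a : M → M)) fun a b hab =>
    MulEquiv.ext fun m => congrFun hab m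
  have h1 : Pt L (Vel L B) (Vel L B) := ⟨1, one_mem _, by rw [map_one, one_smul]⟩
  have h2 : Pt L (Vel L B) (Vel L (z • B)) := ⟨z, hz, (conj_Vel hz).symm⟩
  have hne : Vel L B ≠ Vel L (z • B) := by
    intro h3
    apply hzB
    have h4 : Vel L ((1 : MulAut M) • B) = Vel L (z • B) := by rw [one_smul]; exact h3
    have h5 := h.Vel_inj (one_mem _) hz h4
    rw [one_smul] at h5
    exact h5.symm
  have hfixB : ∀ g ∈ L, ∀ y ∈ L, MulAut.conj g • Vel L (y • B) = Vel L (y • B) → g • y • B = y • B := by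
    intro g hg y hy h3
    rw [conj_Vel hg, ← mul_smul] at h3
    rw [← mul_smul]
    exact h.Vel_inj (mul_mem hg hy) hy h3
  have h3 := h.tis.dvd h1 h2 hne (Ω := M) {m : M | m ∈ I ∧ m ≠ 1} ?_ ?_
  · have h4 : Nat.card {m : M | m ∈ I ∧ m ≠ 1} = Nat.card I - 1 := by
      rw [← Cfsg.Agent.Omega.NOne.Flat.TI.card_ne_one I]
      refine Nat.card_congr ⟨fun m => ⟨⟨m.1, m.2.1⟩, m.2.2⟩, fun m => ⟨m.1.1, m.1.2, m.2⟩, fun m => rfl,
        fun m => rfl⟩
    rwa [h4] at h3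
  · intro g hg hg1 hg2 m hm
    have h4 : g • B = B := by
      have := hfixB g hg 1 (one_mem _) (by rw [one_smul]; exact hg1)
      rwa [one_smul] at this
    have h5 : g • z • B = z • B := hfixB g hg z hz hg2
    refine ⟨hI g hg h4 h5 m hm.1, fun h6 => hm.2 ?_⟩
    have h7 : g m = 1 := h6
    exact (map_eq_one_iff g (MulEquiv.injective g)).1 h7
  · intro s hs s' hs' m hm hfix
    by_contra hss
    obtain ⟨⟨C, ⟨g, hg, rfl⟩, hsC, hs1⟩, hs2⟩ := id hs
    obtain ⟨⟨C', ⟨g', hg', rfl⟩, hsC', hs1'⟩, hs2'⟩ := id hs'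
    rw [conj_Vel hg] at hsC
    rw [conj_Vel hg'] at hsC'
    by_cases hgg : g • B = g' • B
    · have h4 := h.tis.J_pt_ne h2 hne hs hs' hss ⟨g, hg, rfl⟩ (by rw [conj_Vel hg]; exact hsC)
      apply h4
      rw [conj_Vel hg, hgg]
      exact hsC'
    · exact hm.2 (h.eq_one_of_fix_mul hg hg' hgg hsC hsC' hs1 hs1' hfix)

/-- the order of an invariant subgroup is a power of `|Vel|` -/
theorem card_eq_pow [Finite M] {z : MulAut M} (hz : z ∈ L) (hzB : z • B ≠ B) (I : Subgroup M)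
    (hI : ∀ g ∈ L, g • B = B → g • z • B = z • B → ∀ m ∈ I, g m ∈ I) :
    ∃ k, Nat.card I = Nat.card (Vel L B) ^ k := by
  have hfin : Finite (MulAut M) := Finite.of_injective (fun a : MulAut M => (a : M → M)) fun a b hab =>
    MulEquiv.ext fun m => congrFun hab m
  have h2 : Fact (Nat.Prime 2) := ⟨Nat.prime_two⟩
  have hI2 : IsPGroup 2 I := fun m => ⟨1, Subtype.ext (by
    have := h.sq (m : M)
    rw [pow_one, pow_two]
    exact this)⟩
  have hV2 : IsPGroup 2 (Vel L B) := fun v => ⟨1, Subtype.ext (by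
    have := h.sq_Vel v.2
    rw [pow_one, pow_two]
    exact this)⟩
  obtain ⟨d, hd⟩ := IsPGroup.iff_card.1 hI2
  obtain ⟨f, hf⟩ := IsPGroup.iff_card.1 hV2
  have h3 := h.dvd hz hzB I hI
  rw [hd, hf] at h3
  obtain ⟨k, hk⟩ := dvd_of_two_pow h3
  exact ⟨k, by rw [hd, hf, ← pow_mul, hk]⟩

end Elat

end Cfsg.Agent.Omega.Spread
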