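import Cfsg.Agent.Omega.Spread.ElatOf
import Cfsg.Agent.Omega.Spread.Dvd

/-!
# THEOREM OFF (#16468, #16603, #16381) without socket

`Hyp.off_all : F ≤ E₀ → E₀ ≤ E → |E₀ : F| ≤ |W : C_W(E₀)|` (every `|V : E|`); the divisibility of
#17060 / #17127 replaces THEOREM FIELD.
-/

set_option autoImplicit false

namespace Cfsg.Agent.Omega.NOne.Flat

open Subgroup Cfsg Cfsg.Agent.Omega.NoFF.Basic Cfsg.Agent.Omega.NOne.Frame
open Cfsg.Agent.Omega.NOne.NearFF (Near c c_def)
open Cfsg.Agent.ZN (o2)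
open Cfsg.Agent.MinSimple.VModule
open Cfsg.Agent.Omega.Spread (Vel Elat map_eq_smul)
open scoped Pointwise

universe u

variable {G : Type u} [Group G]

namespace Hyp

variable {V F : Subgroup G} (h : Hyp V F)
include h

/-- `g(E₀)` is invariant under `N_X(E)` -/
theorem gg_conj {l : G} (hl : l ∈ centralizer (F : Set G)) (E0 : Subgroup G) :
    gg V F (MulAut.conj l • E0) = gg V F E0 := by
  have e2 : F.relIndex (MulAut.conj l • E0) = F.relIndex E0 := by
    have := relIndex_conj l F E0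
    rwa [conj_eq_of_cent hl] at this
  have e3 : (centralizer ((MulAut.conj l • E0 : Subgroup G) : Set G)).relIndex (WW V F) =
      (centralizer (E0 : Set G)).relIndex (WW V F) := by
    have := relIndex_conj l (centralizer (E0 : Set G)) (WW V F)
    rwa [conj_W hl, conj_centralizer] at this
  rw [gg, gg, e2, e3]

/-- `|W : C_W(E₀)| = |E^w : C_{E^w}(E₀)|` for `w` bad -/
theorem relIndex_W_eq [Finite G] {w : G} (hw : w ∈ centralizer (F : Set G)) (hb : BadX V w)
    {E0 : Subgroup G} (hE : E0 ≤ EE V F) :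
    (centralizer (E0 : Set G)).relIndex (WW V F) =
      (centralizer (E0 : Set G)).relIndex (MulAut.conj w • EE V F) := by
  set K : Subgroup G := WW V F ⊓ centralizer (E0 : Set G) with hK
  set D : Subgroup G := MulAut.conj w • EE V F with hD
  have hDW : D ≤ WW V F := conjE_le_W hw
  have hNK : NN V F ≤ K := NN_le_cent_E0 hE
  have hFK : F ≤ K := h.F_le_NN.trans hNK
  have hsup : D ⊔ K = WW V F := by
    apply le_antisymm (sup_le hDW inf_le_left)
    intro s hs
    obtain ⟨f, hf, hfs⟩ := h.exists_conjE_mul hw hb hs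
    have e : s = f * (f⁻¹ * s) := by group
    rw [e]
    exact mul_mem_sup hf (hNK hfs)
  have hn : D ≤ normalizer (K : Set G) := h.W_norm_of_le hDW inf_le_left hFK
  have k1 := Off.card_sup_mul_inf hn
  rw [hsup] at k1
  have hDK : D ⊓ K = D ⊓ centralizer (E0 : Set G) := by
    rw [hK, ← inf_assoc, inf_eq_left.2 hDW]
  rw [hDK] at k1
  have k2 := card_mul_relIndex' (inf_le_left : K ≤ WW V F)
  rw [inf_relIndex_left] at k2
  have k3 := card_mul_relIndex' (inf_le_left : D ⊓ centralizer (E0 : Set G) ≤ D)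
  rw [inf_relIndex_left] at k3
  rw [← k2, ← k3] at k1
  have hp : 0 < Nat.card K * Nat.card ↥(D ⊓ centralizer (E0 : Set G)) :=
    Nat.mul_pos Nat.card_pos Nat.card_pos
  apply Nat.eq_of_mul_eq_mul_left hp
  calc Nat.card K * Nat.card ↥(D ⊓ centralizer (E0 : Set G)) *
      (centralizer (E0 : Set G)).relIndex (WW V F) =
        Nat.card K * (centralizer (E0 : Set G)).relIndex (WW V F) *
          Nat.card ↥(D ⊓ centralizer (E0 : Set G)) := by ring
    _ = Nat.card ↥(D ⊓ centralizer (E0 : Set G)) * (centralizer (E0 : Set G)).relIndex D *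
          Nat.card K := k1
    _ = _ := by ring

/-- **THEOREM OFF.** -/
theorem off_all [Finite G] {E0 : Subgroup G} (hF : F ≤ E0) (hE : E0 ≤ EE V F) :
    F.relIndex E0 ≤ (centralizer (E0 : Set G)).relIndex (WW V F) := by
  obtain ⟨E1, hF1, hE1, hmin, hleast⟩ := h.exists_least
  -- it is enough to show `g(E₁) ≥ 1`
  suffices hsuff : F.relIndex E1 ≤ (centralizer (E1 : Set G)).relIndex (WW V F) by
    have k1 : 1 ≤ gg V F E1 := by
      rw [gg, le_div_iff₀ (relIndex_pos' _ _), one_mul]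
      exact_mod_cast hsuff
    have k2 := k1.trans (hmin E0 hF hE)
    rw [gg, le_div_iff₀ (relIndex_pos' _ _), one_mul] at k2
    exact_mod_cast k2
  by_cases hlt : F = E1
  · rw [← hlt, relIndex_self]
    exact Nat.one_le_iff_ne_zero.2 index_ne_zero_of_finite
  have hlt' : F < E1 := lt_of_le_of_ne hF1 hlt
  -- the frame
  obtain ⟨a, ha, haE⟩ := h.exists_not_mem
  obtain ⟨x, hx, hb, -, -⟩ := h.exists_near ha haE
  obtain ⟨M, hM, ⟨s⟩⟩ := exists_sectEX (V := V) hx
  have hMfin : Finite M := Finite.of_surjective s.π s.surj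
  have el := h.elat hx hb s
  have hn := h.relIndex_le_Vel hx hb s
  set n := Nat.card (Vel s.ρ.range (s.B (EE V F))) with hndef
  obtain ⟨w, -, hwH, hwE⟩ := h.exists_moves hx hb
  have hg1 := h.good_one hx hb
  have hgl : ∀ l : ↥(HX V F x), Good V F x (l : G) := fun l => by
    have := hg1.mul l.2.1 l.2.2
    rwa [mul_one] at this
  have h1E : MulAut.conj (1 : G) • EE V F = EE V F := by rw [map_one, one_smul]
  have hwX : w ∈ centralizer (F : Set G) := hwH.2
  -- `w` is bad
  have hwb : BadX V w := by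
    rcases h.dich hx hg1 (hgl ⟨w, hwH⟩) with ⟨h1, -⟩ | ⟨h1, -⟩
    · rw [h1E] at h1
      exact absurd h1.symm hwE
    · rwa [inv_one, one_mul] at h1
  have hFw : F ≤ MulAut.conj w • EE V F := h.F_le_conjE hwX
  have hwle : MulAut.conj w • EE V F ≤ EX V F x := (hgl ⟨w, hwH⟩).le
  set z := s.ρ ⟨w, hwH⟩ with hz
  have hzB : z • s.B (EE V F) ≠ s.B (EE V F) := by
    intro h1
    rw [hz, s.smul_B] at h1
    exact hwE (s.B_inj hFw hwle h.F_le_E le_sup_left h1)
  -- invariant subgroups
  have key : ∀ K : Subgroup G, F ≤ K → K ≤ EX V F x →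
      (∀ l ∈ HX V F x, MulAut.conj l • EE V F = EE V F →
        MulAut.conj l • MulAut.conj w • EE V F = MulAut.conj w • EE V F → MulAut.conj l • K ≤ K) →
      ∃ k, F.relIndex K = n ^ k := by
    intro K hFK hK hinv
    rw [← s.card_B hK]
    refine el.card_eq_pow (z := z) ⟨_, rfl⟩ hzB (s.B K) ?_
    rintro _ ⟨l, rfl⟩ h1 h2 _ ⟨k, hk, rfl⟩
    rw [s.smul_B] at h1
    have h1' : MulAut.conj (l : G) • EE V F = EE V F :=
      s.B_inj (h.F_le_conjE l.2.2) (hgl l).le h.F_le_E le_sup_left h1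
    rw [hz, s.smul_B, s.smul_B] at h2
    have hlw := (hgl ⟨w, hwH⟩).mul l.2.1 l.2.2
    have h2' : MulAut.conj (l : G) • MulAut.conj w • EE V F = MulAut.conj w • EE V F := by
      refine s.B_inj ?_ ?_ hFw hwle h2
      · rw [conj_conj]
        exact h.F_le_conjE (mul_mem l.2.2 hwX)
      · rw [conj_conj]
        exact hlw.le
    have h3 := hinv l l.2 h1' h2'
    rw [s.ρπ, s.mem_B hFK]
    exact h3 (Frame.conj_mem hk)
  -- `E₁` is invariant
  have hE1inv : ∀ l ∈ HX V F x, MulAut.conj l • EE V F = EE V F → MulAut.conj l • E1 = E1 := by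
    intro l hl hlE
    have hF' : F ≤ MulAut.conj l • E1 := by
      have := conj_le_iff (g := l) |>.2 hF1
      rwa [conj_eq_of_cent hl.2] at this
    have hE' : MulAut.conj l • E1 ≤ EE V F := by
      have := conj_le_iff (g := l) |>.2 hE1
      rwa [hlE] at this
    have e1 := hleast _ hF' hE' (h.gg_conj hl.2 E1)
    exact (Subgroup.eq_of_le_of_card_ge e1 (Choice.card_conj _ _).le).symm
  obtain ⟨i, hi⟩ := key E1 hF1 (hE1.trans le_sup_left) fun l hl h1 _ => (hE1inv l hl h1).le
  obtain ⟨j, hj⟩ := key (MulAut.conj w • EE V F) hFw hwle fun l _ _ h2 => h2.le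
  have hF3 : F ≤ MulAut.conj w • EE V F ⊓ centralizer (E1 : Set G) := by
    refine le_inf hFw ?_
    exact comm_mono h.comm h.F_le_V (hE1.trans E_le_V)
  obtain ⟨k, hk⟩ := key (MulAut.conj w • EE V F ⊓ centralizer (E1 : Set G)) hF3
    (inf_le_left.trans hwle) fun l hl h1 h2 => by
      rw [Subgroup.smul_inf, h2, conj_centralizer, hE1inv l hl h1]
  have e1 := h.lt_mul hlt' hE1
  have e2 := relIndex_mul_relIndex F (MulAut.conj w • EE V F ⊓ centralizer (E1 : Set G))
    (MulAut.conj w • EE V F) hF3 inf_le_left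
  rw [inf_relIndex_left, hj, hk, ← h.relIndex_W_eq hwX hwb hE1] at e2
  rw [hi] at e1 ⊢
  set r := (centralizer (E1 : Set G)).relIndex (WW V F) with hr
  have hq2 : 1 < n := by
    refine lt_of_lt_of_le ?_ hn
    have h1 : (EE V F).relIndex V ≠ 0 := index_ne_zero_of_finite
    have h2 : (EE V F).relIndex V ≠ 1 := by
      rw [Ne, relIndex_eq_one]
      exact fun h2 => haE (h2 ha)
    omega
  have hkj : k ≤ j := by
    have h1 : n ^ k ∣ n ^ j := ⟨r, e2.symm⟩
    exact (Nat.pow_dvd_pow_iff_le_right hq2).1 h1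
  have hr' : r = n ^ (j - k) := by
    have h1 : n ^ k * r = n ^ k * n ^ (j - k) := by rw [e2, ← pow_add]; congr 1; omega
    exact Nat.eq_of_mul_eq_mul_left (pow_pos (by omega) _) h1
  rw [hr'] at e1 ⊢
  have e3 : n ^ i < n * n ^ (j - k) := lt_of_lt_of_le e1 (Nat.mul_le_mul_right _ hn)
  rw [← pow_succ'] at e3
  have h2 := (Nat.pow_lt_pow_iff_right hq2).1 e3
  exact Nat.pow_le_pow_right (by omega) (by omega)

/-- **COROLLARY A** without socket: `|Y : C_Y(W)| ≤ |W : C_W(Y)|` for `Y ≤ E`. -/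
theorem off_of_le_all [Finite G] {Y : Subgroup G} (hY : Y ≤ EE V F) :
    (centralizer (WW V F : Set G)).relIndex Y ≤ (centralizer (Y : Set G)).relIndex (WW V F) :=
  h.off_of_le (fun _ hF hE => h.off_all hF hE) hY

end Hyp

end Cfsg.Agent.Omega.NOne.Flat
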