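import Cfsg.Agent.Omega.Spread.OffAll
import Cfsg.Agent.Omega.NO3b.Final
import Cfsg.Agent.Omega.NOThreeL.AFour.NotFF

/-!
# THEOREM OFF plugged into its consumers

* `offAll : NOThreeL.AFour.OffAll`, `stmtOff : NO3b.Wc.StmtOff G` : THEOREM OFF, no hypothesis;
* `notFF : NO3b.Final.LocMax K → NO3S.NotFF K` : the leaf `NotFF` from the local exit alone;
* `comm_of_cf`, `comm_of_notFF`, `not_pairA`, `exists_offM` : (A4b) of NO-3L, no socket.
-/

set_option autoImplicit false

namespace Cfsg.Agent.Omega.Spread.Plug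

open Subgroup Cfsg Cfsg.Agent.ZN Cfsg.Agent.ZN.ChoiceBase Cfsg.Agent.Omega.MinPar Cfsg.Agent.Omega.Frame
open Cfsg.Agent.Omega.NO3b Cfsg.Agent.Omega.NO3b.Union
open Cfsg.Agent.Omega.FFThm (OffM)
open Cfsg.Agent.Omega.Node.NO3L Cfsg.Agent.Omega.NOThreeL.Basic
open Cfsg.Agent.Omega.FrameNOFF (CZ)

universe u

/-- **THEOREM OFF**, as used in NO-3L. -/
theorem offAll : NOThreeL.AFour.OffAll.{u} := fun _ _ _ _ _ h _ hF hE => h.off_all hF hE

/-- **THEOREM OFF**, as used in NotFF. -/
theorem stmtOff (G : Type u) [Group G] [Finite G] : Wc.StmtOff G := fun _ _ h _ hF hE => h.off_all hF hE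

/-- **The leaf `NotFF` from the local exit.** -/
theorem notFF {K : Cls.{u}} (hL : Final.LocMax K) : NO3S.NotFF K :=
  Final.notFF (fun G _ _ => stmtOff G) hL

variable {G : Type u} [Group G] [Finite G] {S : Sylow 2 G} {P H : Subgroup G}

theorem comm_of_cf (h : Cf S P) (low : zl (S : Subgroup G) P ≤ o2 (CZ (S : Subgroup G)))
    (hH : IsLoc (S : Subgroup G) H) :
    zl (S : Subgroup G) P ≤ centralizer (zl (S : Subgroup G) H : Set G) :=
  NOThreeL.AFour.comm_of_cf offAll h low hH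

theorem comm_of_notFF (hc : IsCharacteristicTwoType G) (D : Data (S : Subgroup G))
    (hP : IsParS (S : Subgroup G) P) (hn : ∀ A : Subgroup G, A ≤ P → ¬ OffM (zl (S : Subgroup G) P) A)
    (hH : IsLong (S : Subgroup G) H) :
    zl (S : Subgroup G) P ≤ centralizer (zl (S : Subgroup G) H : Set G) :=
  NOThreeL.AFour.comm_of_notFF offAll hc D hP hn hH

theorem not_pairA (hc : IsCharacteristicTwoType G) (D : Data (S : Subgroup G))
    (hn : ∀ A : Subgroup G, A ≤ P → ¬ OffM (zl (S : Subgroup G) P) A) :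
    ¬ PairA (S : Subgroup G) P H := NOThreeL.AFour.not_pairA offAll hc D hn

theorem exists_offM (hc : IsCharacteristicTwoType G) (D : Data (S : Subgroup G))
    (h : PairA (S : Subgroup G) P H) : ∃ A : Subgroup G, A ≤ P ∧ OffM (zl (S : Subgroup G) P) A :=
  NOThreeL.AFour.exists_offM offAll hc D h

end Cfsg.Agent.Omega.Spread.Plug
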