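import Mathlib

/-!
# The elementary replacement of THEOREM FIELD in THEOREM OFF (helper304, #17060), part 1

A group `L` acting on points; `A i` a group of involutions fixing `i` and no other point of `Ω`.
(a), (b), (c) of #17060.
-/

set_option autoImplicit false

namespace Cfsg.Agent.Omega.Spread

open Subgroup

variable {L : Type*} [Group L] {Pt : Type*} [MulAction L Pt]

/-- A system of elementary abelian groups `A i`, `i ∈ Ω`, such that `1 ≠ a ∈ A i` fixes only `i`. -/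
structure Sys (A : Pt → Subgroup L) (Ω : Set Pt) : Prop where
  stable : ∀ (g : L), ∀ i ∈ Ω, g • i ∈ Ω
  conj : ∀ (g : L), ∀ i ∈ Ω, ∀ a ∈ A i, g * a * g⁻¹ ∈ A (g • i)
  sq : ∀ i ∈ Ω, ∀ a ∈ A i, a * a = 1
  fix : ∀ i ∈ Ω, ∀ a ∈ A i, a • i = i
  free : ∀ i ∈ Ω, ∀ j ∈ Ω, ∀ a ∈ A i, a ≠ 1 → a • j = j → j = i
  ne : ∀ i ∈ Ω, ∃ a ∈ A i, a ≠ 1

namespace Sys

variable {A : Pt → Subgroup L} {Ω : Set Pt} (h : Sys A Ω)
include h

/-- (a) -/
theorem eq_of_comm {i j : Pt} (hi : i ∈ Ω) (hj : j ∈ Ω) {t u : L} (ht : t ∈ A i) (hu : u ∈ A j)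
    (ht1 : t ≠ 1) (hu1 : u ≠ 1) (htu : t * u = u * t) : i = j := by
  have h1 : t • (u • i) = u • i := by
    rw [← mul_smul, htu, mul_smul, h.fix i hi t ht]
  have h2 := h.free i hi _ (h.stable u i hi) t ht ht1 h1
  exact h.free j hj i hi u hu hu1 h2

theorem inv_eq {i : Pt} (hi : i ∈ Ω) {t : L} (ht : t ∈ A i) : t⁻¹ = t :=
  inv_eq_of_mul_eq_one_left (h.sq i hi t ht)

/-- `1 ≠ z ∈ A i ∩ A j` implies `i = j` -/
theorem eq_of_mem {i j : Pt} (hi : i ∈ Ω) (hj : j ∈ Ω) {z : L} (hz : z ∈ A i) (hz' : z ∈ A j)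
    (hz1 : z ≠ 1) : i = j := h.eq_of_comm hi hj hz hz' hz1 hz1 rfl

/-- a member of the class commuting with `t ∈ A i` lies in `A i` -/
theorem mem_of_comm {i j : Pt} (hi : i ∈ Ω) (hj : j ∈ Ω) {t v : L} (ht : t ∈ A i) (hv : v ∈ A j)
    (ht1 : t ≠ 1) (htv : t * v = v * t) : v ∈ A i := by
  by_cases hv1 : v = 1
  · rw [hv1]; exact one_mem _
  rw [h.eq_of_comm hi hj ht hv ht1 hv1 htv]
  exact hv

omit h in
theorem dihedral_pow {t ρ : L} (h1 : t * ρ * t⁻¹ = ρ⁻¹) (m : ℕ) : t * ρ ^ m = (ρ ^ m)⁻¹ * t := by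
  have h2 : t * ρ ^ m * t⁻¹ = (ρ ^ m)⁻¹ := by
    rw [← conj_pow, h1, inv_pow]
  rw [← h2, inv_mul_cancel_right]

/-- (b), the common half: the central involution `z` of `⟨t, u⟩` lies in `A i`, `t ∈ A i`. -/
theorem cent_mem {i j : Pt} (hi : i ∈ Ω) (hj : j ∈ Ω) {t u : L} (ht : t ∈ A i) (hu : u ∈ A j)
    (ht1 : t ≠ 1) {k : ℕ} (hz : (t * u) ^ k * (t * u) ^ k = 1) :
    (t * u) ^ k ∈ A i := by
  have htt := h.sq i hi t ht
  have huu := h.sq j hj u hu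
  have ht' := h.inv_eq hi ht
  have hu' := h.inv_eq hj hu
  set ρ := t * u with hρ
  have hinv : ρ⁻¹ = u * t := by rw [hρ, mul_inv_rev, ht', hu']
  have htρ : t * ρ * t⁻¹ = ρ⁻¹ := by
    rw [hinv, hρ, ht']
    calc t * (t * u) * t = t * t * (u * t) := by group
      _ = u * t := by rw [htt, one_mul]
  have huρ : u * ρ * u⁻¹ = ρ⁻¹ := by
    rw [hinv, hρ, hu']
    calc u * (t * u) * u = u * t * (u * u) := by group
      _ = u * t := by rw [huu, mul_one]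
  have hzc : t * ρ ^ k = ρ ^ k * t := by
    rw [dihedral_pow htρ]
    congr 1
    exact inv_eq_of_mul_eq_one_left hz
  -- `t z` lies in some `A p`
  have key : ∃ p ∈ Ω, t * ρ ^ k ∈ A p := by
    rcases Nat.even_or_odd' k with ⟨m, hm | hm⟩
    · refine ⟨(ρ ^ m)⁻¹ • i, h.stable _ i hi, ?_⟩
      have h1 := h.conj (ρ ^ m)⁻¹ i hi t ht
      have e : (ρ ^ m)⁻¹ * t * (ρ ^ m)⁻¹⁻¹ = t * ρ ^ k := by
        rw [inv_inv, ← dihedral_pow htρ, mul_assoc, ← pow_add, hm, two_mul]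
      rwa [e] at h1
    · refine ⟨(ρ ^ m)⁻¹ • j, h.stable _ j hj, ?_⟩
      have h1 := h.conj (ρ ^ m)⁻¹ j hj u hu
      have e : (ρ ^ m)⁻¹ * u * (ρ ^ m)⁻¹⁻¹ = t * ρ ^ k := by
        rw [inv_inv, ← dihedral_pow huρ, mul_assoc, ← pow_add, hm]
        have e2 : ρ ^ (2 * m + 1) = ρ * ρ ^ (m + m) := by rw [← pow_succ', two_mul]
        rw [e2, ← mul_assoc]
        congr 1
        rw [hρ, ← mul_assoc, htt, one_mul]
      rwa [e] at h1
  obtain ⟨p, hp, hmem⟩ := key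
  have h2 : t * ρ ^ k ∈ A i := h.mem_of_comm hi hp ht hmem ht1 (by
    rw [hzc, ← mul_assoc, hzc])
  have h3 := mul_mem (inv_mem ht) h2
  rwa [inv_mul_cancel_left] at h3

/-- **(b)** two members with different fixed points have a product of odd order. -/
theorem odd_of_ne [Finite L] {i j : Pt} (hi : i ∈ Ω) (hj : j ∈ Ω) {t u : L} (ht : t ∈ A i)
    (hu : u ∈ A j) (ht1 : t ≠ 1) (hu1 : u ≠ 1) (hij : i ≠ j) : Odd (orderOf (t * u)) := by
  rw [← Nat.not_even_iff_odd]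
  rintro ⟨k, hk⟩
  have hpos : 0 < orderOf (t * u) := orderOf_pos _
  have hz : (t * u) ^ k * (t * u) ^ k = 1 := by rw [← pow_add, ← hk, pow_orderOf_eq_one]
  have hz1 : (t * u) ^ k ≠ 1 := pow_ne_one_of_lt_orderOf (by omega) (by omega)
  have h1 := h.cent_mem hi hj ht hu ht1 hz
  -- the same for `u t = (t u)⁻¹`
  have e : u * t = (t * u)⁻¹ := by rw [mul_inv_rev, h.inv_eq hi ht, h.inv_eq hj hu]
  have hz' : (u * t) ^ k * (u * t) ^ k = 1 := by
    rw [e, inv_pow, ← mul_inv_rev, hz, inv_one]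
  have h2 := h.cent_mem hj hi hu ht hu1 hz'
  rw [e, inv_pow] at h2
  have h3 : ((t * u) ^ k) ∈ A j := by simpa using inv_mem h2
  exact hij (h.eq_of_mem hi hj h1 h3 hz1)

/-- the class `𝒥` -/
def JJ (A : Pt → Subgroup L) (Ω : Set Pt) : Set L := {t | ∃ i ∈ Ω, t ∈ A i ∧ t ≠ 1}

theorem conj_mem_JJ {t : L} (ht : t ∈ JJ A Ω) (g : L) : g * t * g⁻¹ ∈ JJ A Ω := by
  obtain ⟨i, hi, ht, ht1⟩ := ht
  refine ⟨g • i, h.stable g i hi, h.conj g i hi t ht, fun h1 => ht1 ?_⟩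
  have : t = g⁻¹ * (g * t * g⁻¹) * g := by group
  rw [this, h1]
  group

theorem JJ_sq {t : L} (ht : t ∈ JJ A Ω) : t * t = 1 := by
  obtain ⟨i, hi, ht, -⟩ := ht
  exact h.sq i hi t ht

theorem JJ_inv {t : L} (ht : t ∈ JJ A Ω) : t⁻¹ = t := inv_eq_of_mul_eq_one_left (h.JJ_sq ht)

theorem swap {t : L} (ht : t ∈ JJ A Ω) {i j : Pt} (hij : t • i = j) : t • j = i := by
  rw [← hij, ← mul_smul, h.JJ_sq ht, one_smul]

/-- (c), first part: two different members mapping `i` to `j ≠ i` have different fixed points. -/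
theorem ne_of_swap {i j : Pt} (hi : i ∈ Ω) (hij : i ≠ j) {t u : L} {p q : Pt} (hp : p ∈ Ω)
    (hq : q ∈ Ω) (ht : t ∈ A p) (hu : u ∈ A q) (ht1 : t ≠ 1) (hti : t • i = j)
    (hui : u • i = j) (htu : t ≠ u) : p ≠ q := by
  rintro rfl
  have h1 : t * u ∈ A p := mul_mem ht hu
  have h2 : t * u ≠ 1 := by
    intro h3
    apply htu
    have := eq_inv_of_mul_eq_one_left h3
    rw [this, h.inv_eq hp hu]
  have h3 : (t * u) • i = i := by
    rw [mul_smul, hui]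
    exact h.swap ⟨p, hp, ht, ht1⟩ hti
  have h4 := h.free p hp i hi _ h1 h2 h3
  apply hij
  rw [← hti, h4, h.fix p hp t ht]

/-- (c): `t u` has odd order. -/
theorem odd_of_swap [Finite L] {i j : Pt} (hi : i ∈ Ω) (hij : i ≠ j) {t u : L} (ht : t ∈ JJ A Ω)
    (hu : u ∈ JJ A Ω) (hti : t • i = j) (hui : u • i = j) : Odd (orderOf (t * u)) := by
  by_cases htu : t = u
  · rw [htu, h.JJ_sq hu, orderOf_one]
    exact odd_one
  obtain ⟨p, hp, ht, ht1⟩ := ht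
  obtain ⟨q, hq, hu, hu1⟩ := hu
  exact h.odd_of_ne hp hq ht hu ht1 hu1 (h.ne_of_swap hi hij hp hq ht hu ht1 hti hui htu)

omit h in
/-- odd powers of an element inverting `x` invert `x` -/
theorem odd_pow_inverts {x y : L} (h2 : y * x * y⁻¹ = x⁻¹) {n : ℕ} (hn : Odd n) :
    y ^ n * x * (y ^ n)⁻¹ = x⁻¹ := by
  have h4 : ∀ m : ℕ, y ^ (2 * m) * x * (y ^ (2 * m))⁻¹ = x := by
    intro m
    induction m with
    | zero => simp
    | succ m ih =>
      have e : y ^ (2 * (m + 1)) = y * (y * y ^ (2 * m)) := by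
        rw [show 2 * (m + 1) = 2 * m + 1 + 1 by ring, pow_succ', pow_succ']
      rw [e]
      generalize y ^ (2 * m) = w at ih ⊢
      calc y * (y * w) * x * (y * (y * w))⁻¹ =
          y * (y * (w * x * w⁻¹) * y⁻¹) * y⁻¹ := by group
        _ = y * x⁻¹ * y⁻¹ := by rw [ih, h2]
        _ = (y * x * y⁻¹)⁻¹ := by group
        _ = x := by rw [h2, inv_inv]
  obtain ⟨m, rfl⟩ := hn
  rw [pow_succ']
  have h5 := h4 m
  generalize y ^ (2 * m) = w at h5 ⊢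
  calc y * w * x * (y * w)⁻¹ = y * (w * x * w⁻¹) * y⁻¹ := by group
    _ = x⁻¹ := by rw [h5, h2]

/-- **(c)** `C_{A i}(t u) = 1`. -/
theorem cent_eq_one [Finite L] {i j : Pt} (hi : i ∈ Ω) (hij : i ≠ j) {t u : L} (ht : t ∈ JJ A Ω)
    (hu : u ∈ JJ A Ω) (hti : t • i = j) (hui : u • i = j) (htu : t ≠ u) {a : L} (ha : a ∈ A i)
    (hc : a * (t * u) = t * u * a) : a = 1 := by
  by_contra ha1
  have hodd := h.odd_of_swap hi hij ht hu hti hui
  have htu' := h.JJ_inv ht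
  have huu' := h.JJ_inv hu
  obtain ⟨q, hq, hu, hu1⟩ := hu
  have hiq : i ≠ q := by
    rintro rfl
    apply hij
    rw [← hui, h.fix i hi u hu]
  have hodd2 := h.odd_of_ne hi hq ha hu ha1 hu1 hiq
  set x := t * u with hx
  -- `u` inverts `x`
  have h1 : u * x * u⁻¹ = x⁻¹ := by
    rw [hx, mul_inv_rev, htu', huu']
    calc u * (t * u) * u = u * t * (u * u) := by group
      _ = u * t := by rw [h.sq q hq u hu, mul_one]
  -- `a u` inverts `x`
  have h2 : (a * u) * x * (a * u)⁻¹ = x⁻¹ := by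
    calc (a * u) * x * (a * u)⁻¹ = a * (u * x * u⁻¹) * a⁻¹ := by group
      _ = a * x⁻¹ * a⁻¹ := by rw [h1]
      _ = (a * x * a⁻¹)⁻¹ := by group
      _ = x⁻¹ := by rw [hc, mul_inv_cancel_right]
  have h3 := fun n (hn : Odd n) => odd_pow_inverts h2 hn
  have h5 := h3 _ hodd2
  rw [pow_orderOf_eq_one, one_mul, inv_one, mul_one] at h5
  -- `x² = 1`
  have h6 : x ^ 2 = 1 := by
    rw [pow_two]
    nth_rewrite 1 [h5]
    exact inv_mul_cancel x
  have h7 : orderOf x ∣ 2 := orderOf_dvd_of_pow_eq_one h6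
  have h8 : orderOf x = 1 := by
    rcases (Nat.dvd_prime Nat.prime_two).1 h7 with h9 | h9
    · exact h9
    · rw [h9] at hodd
      exact absurd hodd (by decide)
  rw [orderOf_eq_one_iff] at h8
  apply htu
  have := eq_inv_of_mul_eq_one_left h8
  rw [this, huu']

end Sys

end Cfsg.Agent.Omega.Spread
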