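import Mathlib

/-!
# Groups generated by elations of a partial spread (#17060, #17127)

`M` an elementary abelian 2-group, `L ≤ Aut(M)`, `B ≤ M` such that any two different `L`-conjugates
of `B` are complements of each other.  `Vel L B`: the elements of `L` centralising `B` and `M / B`.
It is a TI-subgroup of `L` in the strong sense `Elat.ti`.
-/

set_option autoImplicit false

namespace Cfsg.Agent.Omega.Spread

open Subgroup
open scoped Pointwise

variable {M : Type*} [Group M]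

theorem sup_ind {K K' : Subgroup M} {p : M → Prop} (h1 : ∀ m ∈ K, p m) (h2 : ∀ m ∈ K', p m) (h3 : p 1)
    (h4 : ∀ m n, p m → p n → p (m * n)) (h5 : ∀ m, p m → p m⁻¹) {m : M} (hm : m ∈ K ⊔ K') : p m := by
  let S : Subgroup M :=
    { carrier := {m | p m}
      one_mem' := h3
      mul_mem' := fun {a b} ha hb => h4 a b ha hb
      inv_mem' := fun {a} ha => h5 a ha }
  have h6 : K ⊔ K' ≤ S := sup_le h1 h2
  exact h6 hm

theorem mulAut_smul (y : MulAut M) (m : M) : y • m = y m := rfl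

theorem map_eq_smul (y : MulAut M) (B : Subgroup M) : B.map (y : M ≃* M).toMonoidHom = y • B := by
  ext m
  rw [Subgroup.mem_smul_pointwise_iff_exists]
  rfl

/-- The elations with axis `B` in `L`. -/
def Vel (L : Subgroup (MulAut M)) (B : Subgroup M) : Subgroup (MulAut M) where
  carrier := {a | a ∈ L ∧ (∀ m ∈ B, a m = m) ∧ ∀ m, a m * m⁻¹ ∈ B}
  one_mem' := ⟨one_mem _, fun m _ => rfl, fun m => by
    change m * m⁻¹ ∈ B
    rw [mul_inv_cancel]
    exact one_mem _⟩
  mul_mem' := by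
    rintro a b ⟨ha, ha1, ha2⟩ ⟨hb, hb1, hb2⟩
    refine ⟨mul_mem ha hb, fun m hm => ?_, fun m => ?_⟩
    · change a (b m) = m
      rw [hb1 m hm, ha1 m hm]
    · have h1 := mul_mem (ha2 (b m)) (hb2 m)
      have e : a (b m) * (b m)⁻¹ * (b m * m⁻¹) = (a * b) m * m⁻¹ := by
        change a (b m) * (b m)⁻¹ * (b m * m⁻¹) = a (b m) * m⁻¹
        group
      rwa [e] at h1
  inv_mem' := by
    rintro a ⟨ha, ha1, ha2⟩
    refine ⟨inv_mem ha, fun m hm => ?_, fun m => ?_⟩
    · have h1 : a⁻¹ (a m) = m := MulAut.inv_apply_self _ _ _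
      rwa [ha1 m hm] at h1
    · have h1 := inv_mem (ha2 (a⁻¹ m))
      rw [MulAut.apply_inv_self] at h1
      have e : (m * (a⁻¹ m)⁻¹)⁻¹ = a⁻¹ m * m⁻¹ := by group
      rwa [e] at h1

theorem mem_Vel {L : Subgroup (MulAut M)} {B : Subgroup M} {a : MulAut M} :
    a ∈ Vel L B ↔ a ∈ L ∧ (∀ m ∈ B, a m = m) ∧ ∀ m, a m * m⁻¹ ∈ B := Iff.rfl

theorem Vel_le {L : Subgroup (MulAut M)} {B : Subgroup M} : Vel L B ≤ L := fun _ h => h.1

theorem smul_self_of_mem {L : Subgroup (MulAut M)} {B : Subgroup M} {a : MulAut M} (ha : a ∈ Vel L B) :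
    a • B = B := by
  ext m
  constructor
  · intro hm
    obtain ⟨b, hb, rfl⟩ := (Subgroup.mem_smul_pointwise_iff_exists _ _ _).1 hm
    rw [mulAut_smul, ha.2.1 b hb]
    exact hb
  · intro hm
    refine (Subgroup.mem_smul_pointwise_iff_exists _ _ _).2 ⟨m, hm, ?_⟩
    rw [mulAut_smul, ha.2.1 m hm]

theorem conj_mem_Vel {L : Subgroup (MulAut M)} {B : Subgroup M} {g a : MulAut M} (hg : g ∈ L)
    (ha : a ∈ Vel L B) : g * a * g⁻¹ ∈ Vel L (g • B) := by
  refine ⟨mul_mem (mul_mem hg ha.1) (inv_mem hg), fun m hm => ?_, fun m => ?_⟩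
  · obtain ⟨b, hb, rfl⟩ := (Subgroup.mem_smul_pointwise_iff_exists _ _ _).1 hm
    change g (a (g⁻¹ (g b))) = g b
    rw [MulAut.inv_apply_self, ha.2.1 b hb]
  · have h1 := Subgroup.smul_mem_pointwise_smul _ g B (ha.2.2 (g⁻¹ m))
    rw [mulAut_smul, map_mul, map_inv, MulAut.apply_inv_self] at h1
    exact h1

theorem conj_Vel {L : Subgroup (MulAut M)} {B : Subgroup M} {g : MulAut M} (hg : g ∈ L) :
    MulAut.conj g • Vel L B = Vel L (g • B) := by
  ext a
  constructor
  · intro ha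
    obtain ⟨b, hb, rfl⟩ := (Subgroup.mem_smul_pointwise_iff_exists _ _ _).1 ha
    exact conj_mem_Vel hg hb
  · intro ha
    refine (Subgroup.mem_smul_pointwise_iff_exists _ _ _).2 ⟨g⁻¹ * a * g, ?_, ?_⟩
    · have h1 := conj_mem_Vel (inv_mem hg) ha
      rw [← mul_smul, inv_mul_cancel, one_smul, inv_inv] at h1
      exact h1
    · change g * (g⁻¹ * a * g) * g⁻¹ = a
      group

/-- The partial spread. -/
structure Elat (L : Subgroup (MulAut M)) (B : Subgroup M) : Prop where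
  comm : ∀ m n : M, m * n = n * m
  sq : ∀ m : M, m * m = 1
  spread : ∀ y ∈ L, y • B = B ∨ y • B ⊓ B = ⊥
  sup : ∀ y ∈ L, y • B ≠ B → y • B ⊔ B = ⊤
  two : ∃ y ∈ L, y • B ≠ B
  ne : Vel L B ≠ ⊥

namespace Elat

variable {L : Subgroup (MulAut M)} {B : Subgroup M} (h : Elat L B)
include h

theorem exists_mul {K K' : Subgroup M} {m : M} (hm : m ∈ K ⊔ K') : ∃ k ∈ K, ∃ k' ∈ K', k * k' = m := by
  refine sup_ind (p := fun m => ∃ k ∈ K, ∃ k' ∈ K', k * k' = m)
    (fun m hm => ⟨m, hm, 1, one_mem _, mul_one m⟩) (fun m hm => ⟨1, one_mem _, m, hm, one_mul m⟩)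
    ⟨1, one_mem _, 1, one_mem _, mul_one 1⟩ ?_ ?_ hm
  · rintro _ _ ⟨a, ha, b, hb, rfl⟩ ⟨c, hc, d, hd, rfl⟩
    refine ⟨a * c, mul_mem ha hc, b * d, mul_mem hb hd, ?_⟩
    calc a * c * (b * d) = a * (c * b) * d := by group
      _ = a * (b * c) * d := by rw [h.comm c b]
      _ = a * b * (c * d) := by group
  · rintro _ ⟨a, ha, b, hb, rfl⟩
    exact ⟨a⁻¹, inv_mem ha, b⁻¹, inv_mem hb, by rw [mul_inv_rev, h.comm]⟩

theorem spread' {y z : MulAut M} (hy : y ∈ L) (hz : z ∈ L) : y • B = z • B ∨ y • B ⊓ z • B = ⊥ := by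
  rcases h.spread (z⁻¹ * y) (mul_mem (inv_mem hz) hy) with h1 | h1
  · left
    have h2 := congrArg (fun K : Subgroup M => z • K) h1
    simp only [← mul_smul, mul_inv_cancel_left] at h2
    exact h2
  · right
    have h2 := congrArg (fun K : Subgroup M => z • K) h1
    simp only [Subgroup.smul_inf, ← mul_smul, mul_inv_cancel_left, Subgroup.smul_bot] at h2
    exact h2

theorem sup' {y z : MulAut M} (hy : y ∈ L) (hz : z ∈ L) (hne : y • B ≠ z • B) : y • B ⊔ z • B = ⊤ := by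
  have h0 : (z⁻¹ * y) • B ≠ B := by
    intro h1
    apply hne
    have h2 := congrArg (fun K : Subgroup M => z • K) h1
    simp only [← mul_smul, mul_inv_cancel_left] at h2
    exact h2
  have h1 := h.sup (z⁻¹ * y) (mul_mem (inv_mem hz) hy) h0
  have h2 := congrArg (fun K : Subgroup M => z • K) h1
  simp only [Subgroup.smul_sup, ← mul_smul, mul_inv_cancel_left] at h2
  rw [h2]
  ext m
  simp only [mem_top, iff_true]
  exact (Subgroup.mem_smul_pointwise_iff_exists _ _ _).2 ⟨z⁻¹ • m, mem_top _, by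
    rw [← mul_smul, mul_inv_cancel, one_smul]⟩

/-- an elation fixing a second component is trivial -/
theorem eq_one_of_fix {y z : MulAut M} (hy : y ∈ L) (hz : z ∈ L) (hne : y • B ≠ z • B) {a : MulAut M}
    (ha : a ∈ Vel L (y • B)) (hfix : a • z • B = z • B) : a = 1 := by
  have h1 : ∀ m ∈ z • B, a m = m := by
    intro m hm
    have h2 : a m ∈ z • B := by
      rw [← hfix]
      exact Subgroup.smul_mem_pointwise_smul _ a _ hm
    have h3 : a m * m⁻¹ ∈ y • B ⊓ z • B := mem_inf.2 ⟨ha.2.2 m, mul_mem h2 (inv_mem hm)⟩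
    rcases h.spread' hy hz with h4 | h4
    · exact absurd h4 hne
    rw [h4, mem_bot] at h3
    exact mul_inv_eq_one.1 h3
  have h5 := h.sup' hy hz hne
  ext m
  change a m = m
  have hm : m ∈ y • B ⊔ z • B := by rw [h5]; exact mem_top _
  exact sup_ind (p := fun m => a m = m) (fun m hm => ha.2.1 m hm)
    (fun m hm => h1 m hm) (map_one a) (fun m n hm hn => by rw [map_mul, hm, hn])
    (fun m hm => by rw [map_inv, hm]) hm

/-- a nontrivial elation fixes only its axis -/
theorem eq_of_fix {y z : MulAut M} (hy : y ∈ L) (hz : z ∈ L) {a : MulAut M} (ha : a ∈ Vel L (y • B))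
    (ha1 : a ≠ 1) (hfix : a • z • B = z • B) : y • B = z • B := by
  by_contra hne
  exact ha1 (h.eq_one_of_fix hy hz hne ha hfix)

theorem exists_other (y : MulAut M) : ∃ z ∈ L, z • B ≠ y • B := by
  by_contra hcon
  push Not at hcon
  obtain ⟨w, hw, hwB⟩ := h.two
  exact hwB ((hcon w hw).trans ((hcon 1 (one_mem _)).symm.trans (one_smul _ _)))

/-- `C_M(a) = B` for a nontrivial elation -/
theorem mem_of_fix {y : MulAut M} (hy : y ∈ L) {a : MulAut M} (ha : a ∈ Vel L (y • B)) (ha1 : a ≠ 1)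
    {m : M} (hm : a m = m) : m ∈ y • B := by
  obtain ⟨z, hz, hzy⟩ := h.exists_other y
  have hm' : m ∈ y • B ⊔ z • B := by rw [h.sup' hy hz (Ne.symm hzy)]; exact mem_top _
  obtain ⟨b, hb, k, hk, rfl⟩ := h.exists_mul hm'
  have h1 : a k = k := by
    rw [map_mul, ha.2.1 b hb] at hm
    exact mul_left_cancel hm
  by_cases hk1 : k = 1
  · rw [hk1, mul_one]
    exact hb
  exfalso
  -- `k ∈ z B ∩ a z B`
  apply ha1
  refine h.eq_one_of_fix hy hz (Ne.symm hzy) ha ?_
  rcases h.spread' (mul_mem ha.1 hz) hz with h2 | h2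
  · rwa [mul_smul] at h2
  · exfalso
    apply hk1
    have h3 : k ∈ (a * z) • B ⊓ z • B := by
      refine mem_inf.2 ⟨?_, hk⟩
      rw [mul_smul]
      have h4 := Subgroup.smul_mem_pointwise_smul _ a _ hk
      rwa [mulAut_smul, h1] at h4
    rw [h2, mem_bot] at h3
    exact h3

/-- a member of `Vel` normalising `Vel L (y B)` fixes `y B` -/
theorem fix_of_norm {y : MulAut M} (hy : y ∈ L) {v : MulAut M} (hv : v ∈ L)
    (hn : v ∈ normalizer (Vel L (y • B) : Set (MulAut M))) : v • y • B = y • B := by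
  obtain ⟨a, ha, ha1⟩ : ∃ a ∈ Vel L (y • B), a ≠ 1 := by
    by_contra hcon
    push Not at hcon
    apply h.ne
    rw [eq_bot_iff]
    intro b hb
    have h1 := conj_mem_Vel hy hb
    have h2 := hcon _ h1
    rw [mem_bot]
    have e : b = y⁻¹ * (y * b * y⁻¹) * y := by group
    rw [e, h2]
    group
  have h1 := (mem_normalizer_iff.1 hn a).1 ha
  have h1' : v * a * v⁻¹ ≠ 1 := by
    intro h2
    apply ha1
    have e : a = v⁻¹ * (v * a * v⁻¹) * v := by group
    rw [e, h2]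
    group
  have key : v • y • B ≤ y • B := by
    intro m hm
    obtain ⟨b, hb, rfl⟩ := (Subgroup.mem_smul_pointwise_iff_exists _ _ _).1 hm
    refine h.mem_of_fix hy h1 h1' ?_
    change v (a (v⁻¹ (v b))) = v b
    rw [MulAut.inv_apply_self, ha.2.1 b hb]
  -- equality by the dichotomy
  rcases h.spread' (mul_mem hv hy) hy with h2 | h2
  · rwa [mul_smul] at h2
  · rw [mul_smul, inf_eq_left.2 key] at h2
    have h3 : y • B = ⊥ := by
      have h4 := congrArg (fun K : Subgroup M => v⁻¹ • K) h2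
      simp only [← mul_smul, inv_mul_cancel_left, Subgroup.smul_bot] at h4
      exact h4
    rw [h2, h3]

/-- **TI** -/
theorem ti {g v : MulAut M} (hg : g ∈ L) (hv : v ∈ Vel L B) (hv1 : v ≠ 1)
    (hn : v ∈ normalizer ((MulAut.conj g • Vel L B : Subgroup (MulAut M)) : Set (MulAut M))) :
    MulAut.conj g • Vel L B = Vel L B := by
  rw [conj_Vel hg] at hn ⊢
  have h1 := h.fix_of_norm hg hv.1 hn
  have h2 : (1 : MulAut M) • B = g • B :=
    h.eq_of_fix (one_mem _) hg (by rw [one_smul]; exact hv) hv1 h1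
  rw [← h2, one_smul]

theorem sq_Vel {v : MulAut M} (hv : v ∈ Vel L B) : v * v = 1 := by
  ext m
  change v (v m) = m
  have h1 := hv.2.1 _ (hv.2.2 m)
  rw [map_mul, map_inv] at h1
  -- `v (v m) (v m)⁻¹ = v m m⁻¹`
  have h2 : v (v m) = v m * m⁻¹ * v m := by rw [← h1]; group
  rw [h2, h.comm (v m * m⁻¹) (v m)]
  have h3 := h.sq (v m)
  calc v m * (v m * m⁻¹) = v m * v m * m⁻¹ := by group
    _ = m⁻¹ := by rw [h3, one_mul]
    _ = m := inv_eq_of_mul_eq_one_left (h.sq m)

/-- The product of two elations with different axes has no fixed point. -/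
theorem eq_one_of_fix_mul {y z : MulAut M} (hy : y ∈ L) (hz : z ∈ L) (hne : y • B ≠ z • B)
    {a b : MulAut M} (ha : a ∈ Vel L (y • B)) (hb : b ∈ Vel L (z • B)) (ha1 : a ≠ 1) (hb1 : b ≠ 1)
    {m : M} (hm : a (b m) = m) : m = 1 := by
  -- `b m = a m`
  have haa : a * a = 1 := by
    have h1 := h.sq_Vel (v := y⁻¹ * a * y) (by
      have := conj_mem_Vel (inv_mem hy) ha
      rwa [← mul_smul, inv_mul_cancel, one_smul, inv_inv] at this)
    calc a * a = y * (y⁻¹ * a * y * (y⁻¹ * a * y)) * y⁻¹ := by group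
      _ = 1 := by rw [h1]; group
  have h1 : b m = a m := by
    have h2 : a (a (b m)) = a m := by rw [hm]
    have h3 : a (a (b m)) = b m := by
      change (a * a) (b m) = b m
      rw [haa]; rfl
    rw [← h2, h3]
  have h2 : a m * m⁻¹ ∈ y • B ⊓ z • B := by
    refine mem_inf.2 ⟨ha.2.2 m, ?_⟩
    rw [← h1]
    exact hb.2.2 m
  rcases h.spread' hy hz with h3 | h3
  · exact absurd h3 hne
  rw [h3, mem_bot] at h2
  have h4 := mul_inv_eq_one.1 h2
  have h5 := h.mem_of_fix hy ha ha1 h4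
  have h6 := h.mem_of_fix hz hb hb1 (h1.trans h4)
  have h7 : m ∈ y • B ⊓ z • B := mem_inf.2 ⟨h5, h6⟩
  rwa [h3, mem_bot] at h7

end Elat

end Cfsg.Agent.Omega.Spread
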