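import Cfsg.Agent.Omega.Spread.Elat
import Cfsg.Agent.Omega.NOne.Flat.Field1
import Cfsg.Agent.Omega.NOne.Flat.Off

/-!
# The elations on `E E^x / F` (#17060 (g))
-/

set_option autoImplicit false

namespace Cfsg.Agent.Omega.NOne.Flat

open Subgroup Cfsg Cfsg.Agent.Omega.NoFF.Basic Cfsg.Agent.Omega.NOne.Frame
open Cfsg.Agent.Omega.NOne.NearFF (Near c c_def)
open Cfsg.Agent.ZN (o2)
open Cfsg.Agent.MinSimple.VModule
open Cfsg.Agent.Omega.Spread (Vel Elat map_eq_smul)
open scoped Pointwise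

universe u

variable {G : Type u} [Group G]

theorem Sect.smul_B {H N D : Subgroup G} {M : Type u} [Group M] (s : Sect H N D M) (l : H)
    (K : Subgroup G) : (s.ρ l) • s.B K = s.B (MulAut.conj (l : G) • K) := by
  rw [← map_eq_smul]
  exact s.B_map l K

namespace Hyp

variable {V F : Subgroup G} (h : Hyp V F)
include h

omit h in
theorem card_conjE (g : G) : Nat.card ↥(MulAut.conj g • EE V F) = Nat.card ↥(EE V F) :=
  Choice.card_conj _ _

/-- an element of `V^x - E^x` moves `E` -/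
theorem exists_moves [Finite G] {x : G} (hx : x ∈ centralizer (F : Set G)) (hb : BadX V x) :
    ∃ w ∈ MulAut.conj x • V, w ∈ HX V F x ∧ MulAut.conj w • EE V F ≠ EE V F := by
  have : Fact (Nat.Prime 2) := ⟨Nat.prime_two⟩
  obtain ⟨w, hw, hwE⟩ := h.exists_not_mem_conj x
  have hgood := h.good_self hx hb
  refine ⟨w, hw, h.conjV_le_HX hgood hw, fun hwE' => ?_⟩
  have hwX : w ∈ centralizer (F : Set G) := h.conjV_le_X hx hw
  -- a fixed vector of `w` on `E / F`
  have hwn : w ∈ normalizer (EE V F : Set G) := by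
    rw [mem_normalizer_iff]
    intro n
    constructor
    · intro hn
      rw [← hwE']
      exact Frame.conj_mem hn
    · intro hn
      rw [← hwE'] at hn
      rw [mem_conj] at hn
      have e : w⁻¹ * (w * n * w⁻¹) * w = n := by group
      rwa [e] at hn
  have hP : IsPGroup 2 (zpowers w) := by
    have h1 : IsPGroup 2 ↥(MulAut.conj x • V) := Choice.isPGroup_conj h.V_isPGroup x
    exact h1.to_le (zpowers_le.2 hw)
  have hPn : zpowers w ≤ normalizer (EE V F : Set G) := zpowers_le.2 hwn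
  have hE2 : IsPGroup 2 (EE V F) := h.V_isPGroup.to_le inf_le_left
  have hY : IsPGroup 2 (zpowers w ⊔ EE V F : Subgroup G) := IsPGroup.to_sup_of_normal_right' hP hE2 hPn
  have hYn : zpowers w ⊔ EE V F ≤ normalizer (EE V F : Set G) := sup_le hPn le_normalizer
  have hYX : zpowers w ⊔ EE V F ≤ centralizer (F : Set G) :=
    sup_le (zpowers_le.2 hwX) (inf_le_left.trans h.V_le_X)
  obtain ⟨e0, he0, he0F⟩ := SetLike.not_le_iff_exists.1 (not_le_of_gt h.F_lt_E)
  obtain ⟨n, hn, hnF, hfix⟩ := GTwoFour.Tools.exists_fixed_mod (M := F) hY le_sup_right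
    (fun y hy n hn => norm_mem (hYn hy) hn)
    (fun y hy m hm => norm_mem (X_norm_F (hYX hy)) hm) ⟨e0, he0, he0F⟩
  have h1 := hgood.reg n (mem_sup_left hn) w hw hwE (hfix w (mem_sup_left (mem_zpowers w)))
  apply hnF
  rw [← h.inf_eq_of_bad hx hb]
  exact mem_inf.2 ⟨hn.1, conjE_le_conjV x h1⟩

/-- **The elation structure on `E E^x / F`.** -/
theorem elat [Finite G] {x : G} (hx : x ∈ centralizer (F : Set G)) (hb : BadX V x)
    {M : Type u} [Group M] (s : Sect (HX V F x) (EX V F x) F M) :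
    Elat s.ρ.range (s.B (EE V F)) := by
  have hXW : EX V F x ≤ WW V F := EEx_le_W hx
  have hg1 := h.good_one hx hb
  have hgl : ∀ l : ↥(HX V F x), Good V F x (l : G) := fun l => by
    have := hg1.mul l.2.1 l.2.2
    rwa [mul_one] at this
  have h1E : MulAut.conj (1 : G) • EE V F = EE V F := by rw [map_one, one_smul]
  refine
    { comm := ?_
      sq := ?_
      spread := ?_
      sup := ?_
      two := ?_
      ne := ?_ }
  · intro m n
    obtain ⟨a, rfl⟩ := s.surj m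
    obtain ⟨b, rfl⟩ := s.surj n
    rw [← map_mul, ← map_mul, s.π_eq_iff]
    have h1 := h.comm_WW (inv_mem (hXW b.2)) (inv_mem (hXW a.2))
    have e : (((a * b : ↥(EX V F x)) : G))⁻¹ * ((b * a : ↥(EX V F x)) : G) = c (b : G)⁻¹ (a : G)⁻¹ := by
      rw [c]; push_cast; group
    rw [e]
    exact h1
  · intro m
    obtain ⟨a, rfl⟩ := s.surj m
    rw [← map_mul, s.ker]
    exact h.sq_W (hXW a.2)
  · rintro _ ⟨l, rfl⟩
    rw [s.smul_B]
    rcases h.dich hx (hgl l) hg1 with ⟨h1, -⟩ | ⟨-, h1⟩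
    · left
      rw [h1, h1E]
    · right
      rw [h1E] at h1
      rw [s.B_inf h.F_le_E, h1, s.B_D]
  · rintro _ ⟨l, rfl⟩ hne
    rw [s.smul_B] at hne ⊢
    rw [s.B_sup (hgl l).le le_sup_left, ← s.B_N]
    congr 1
    have hinf : MulAut.conj (l : G) • EE V F ⊓ EE V F = F := by
      rcases h.dich hx (hgl l) hg1 with ⟨h1, -⟩ | ⟨-, h1⟩
      · rw [h1E] at h1
        exact absurd (by rw [h1]) hne
      · rwa [h1E] at h1
    have hinf' : MulAut.conj x • EE V F ⊓ EE V F = F := by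
      apply le_antisymm
      · rw [← h.inf_eq_of_bad hx hb, inf_comm]
        exact inf_le_inf inf_le_left (conjE_le_conjV x)
      · exact le_inf (h.F_le_conjE hx) h.F_le_E
    have hn : ∀ g ∈ centralizer (F : Set G), MulAut.conj g • EE V F ≤ normalizer (EE V F : Set G) :=
      fun g hg => h.W_norm_of_le (conjE_le_W hg) E_le_W h.F_le_E
    have k1 := Off.card_sup_mul_inf (hn _ (hgl l).gX)
    have k2 := Off.card_sup_mul_inf (hn _ hx)
    rw [hinf, card_conjE] at k1
    rw [hinf', card_conjE, ← k1] at k2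
    have k3 : Nat.card ↥(MulAut.conj x • EE V F ⊔ EE V F) =
        Nat.card ↥(MulAut.conj (l : G) • EE V F ⊔ EE V F) := Nat.eq_of_mul_eq_mul_right Nat.card_pos k2
    refine Subgroup.eq_of_le_of_card_ge (sup_le (hgl l).le le_sup_left) ?_
    rw [← k3, EX, sup_comm]
  · obtain ⟨w, -, hwH, hwE⟩ := h.exists_moves hx hb
    refine ⟨s.ρ ⟨w, hwH⟩, ⟨_, rfl⟩, fun h1 => hwE ?_⟩
    rw [s.smul_B] at h1
    exact s.B_inj (h.F_le_conjE hwH.2) (hgl ⟨w, hwH⟩).le h.F_le_E le_sup_left h1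
  · obtain ⟨w, hw, hwE⟩ := h.exists_not_mem
    have hw1 : w ∈ MulAut.conj (1 : G) • V := by rwa [map_one, one_smul]
    have hwH : w ∈ HX V F x := h.conjV_le_HX hg1 hw1
    intro h1
    have h2 : s.ρ ⟨w, hwH⟩ ∈ Vel s.ρ.range (s.B (EE V F)) := by
      refine ⟨⟨_, rfl⟩, ?_, ?_⟩
      · rintro _ ⟨n, hn, rfl⟩
        rw [s.ρπ]
        congr 1
        apply Subtype.ext
        have h3 : w * (n : G) = n * w := h.V_comm hw (mem_inf.1 (show (n : G) ∈ EE V F from hn)).1
        change w * (n : G) * w⁻¹ = n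
        rw [h3, mul_inv_cancel_right]
      · intro m
        obtain ⟨n, rfl⟩ := s.surj m
        rw [s.ρπ, ← map_inv, ← map_mul, s.mem_B h.F_le_E]
        exact h.c_memE hw (hXW n.2)
    rw [h1, mem_bot, s.ρ_eq_one_iff] at h2
    have h3 := (h.ker_conj hx hb hg1 hw1).1 h2
    rw [h1E] at h3
    exact hwE h3

/-- `|V / E| ≤ |Vel|` -/
theorem relIndex_le_Vel [Finite G] {x : G} (hx : x ∈ centralizer (F : Set G)) (hb : BadX V x)
    {M : Type u} [Group M] [Finite M] (s : Sect (HX V F x) (EX V F x) F M) :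
    (EE V F).relIndex V ≤ Nat.card (Vel s.ρ.range (s.B (EE V F))) := by
  have hXW : EX V F x ≤ WW V F := EEx_le_W hx
  have hg1 := h.good_one hx hb
  have hVH : V ≤ HX V F x := by
    have := h.conjV_le_HX hg1
    rwa [map_one, one_smul] at this
  have h1 : ∀ k (hk : k ∈ V), s.ρ ⟨k, hVH hk⟩ = 1 ↔ k ∈ EE V F := by
    intro k hk
    rw [s.ρ_eq_one_iff]
    have hk1 : k ∈ MulAut.conj (1 : G) • V := by rwa [map_one, one_smul]
    have := h.ker_conj hx hb hg1 hk1
    rwa [map_one, one_smul] at this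
  rw [← s.card_A hVH h1]
  refine Subgroup.card_le_of_le ?_
  rintro _ ⟨⟨w, hwH⟩, hw, rfl⟩
  have hw' : w ∈ V := hw
  refine ⟨⟨_, rfl⟩, ?_, ?_⟩
  · rintro _ ⟨n, hn, rfl⟩
    rw [s.ρπ]
    congr 1
    apply Subtype.ext
    have h3 : w * (n : G) = n * w := h.V_comm hw' (mem_inf.1 (show (n : G) ∈ EE V F from hn)).1
    change w * (n : G) * w⁻¹ = n
    rw [h3, mul_inv_cancel_right]
  · intro m
    obtain ⟨n, rfl⟩ := s.surj m
    rw [s.ρπ, ← map_inv, ← map_mul, s.mem_B h.F_le_E]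
    exact h.c_memE hw' (hXW n.2)

end Hyp

end Cfsg.Agent.Omega.NOne.Flat
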